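import Mathlib
import Groth.Agent.GeomIrred.Basic

/-!
# Elements with a unit coefficient in a tensor product with a domain
-/

set_option autoImplicit false
set_option linter.style.haveILetI false

universe u

open TensorProduct

noncomputable section

namespace Groth.Agent.PrincDivLib

variable {k : Type u} [Field k] {A : Type u} [CommRing A] [Algebra k A]

variable (k A) in
/-- A basis of `A`. -/
abbrev bA := Module.Free.chooseBasis k A

variable (k A) in
/-- The base changed basis. -/
abbrev bT (B : Type u) [CommRing B] [Algebra k B] := Algebra.TensorProduct.basis B (bA k A)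

variable {B C : Type u} [CommRing B] [Algebra k B] [CommRing C] [Algebra k C]

/-- The map induced on base changes. -/
abbrev mapT (φ : B →ₐ[k] C) : B ⊗[k] A →ₐ[k] C ⊗[k] A :=
  Algebra.TensorProduct.map φ (AlgHom.id k A)

theorem repr_mapT (φ : B →ₐ[k] C) (x : B ⊗[k] A) (i) :
    (bT k A C).repr (mapT φ x) i = φ ((bT k A B).repr x i) := by
  induction x using TensorProduct.induction_on with
  | zero => simp
  | tmul r a =>
    simp [Algebra.TensorProduct.basis_repr_tmul, Algebra.smul_def, φ.map_mul, mul_comm]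
  | add x y hx hy => simp [hx, hy]

theorem mapT_eq_zero_iff (φ : B →ₐ[k] C) (x : B ⊗[k] A) :
    mapT φ x = 0 ↔ ∀ i, φ ((bT k A B).repr x i) = 0 := by
  rw [(bT k A C).ext_elem_iff]
  simp [repr_mapT]

theorem mem_smul_of_forall (J : Ideal B) (x : B ⊗[k] A) (hx : ∀ i, (bT k A B).repr x i ∈ J) :
    x ∈ J • (⊤ : Submodule B (B ⊗[k] A)) := by
  rw [← (bT k A B).linearCombination_repr x, Finsupp.linearCombination_apply]
  exact Submodule.sum_mem _ fun i _ => Submodule.smul_mem_smul (hx i) trivial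

variable [IsAlgClosed k] [IsDomain A]

omit [IsAlgClosed k] [IsDomain A] in
theorem repr_smul (c : B) (x : B ⊗[k] A) (i) :
    (bT k A B).repr (c • x) i = c * (bT k A B).repr x i := by simp

theorem repr_mem_of_mul_mem [IsNoetherianRing B] (f : B ⊗[k] A) (i₀) (hf : IsUnit ((bT k A B).repr f i₀))
    (J : Ideal B) (g : B ⊗[k] A) (h : ∀ i, (bT k A B).repr (f * g) i ∈ J) :
    ∀ i, (bT k A B).repr g i ∈ J := by
  refine IsNoetherian.induction (P := fun J : Ideal B => ∀ g : B ⊗[k] A,
    (∀ i, (bT k A B).repr (f * g) i ∈ J) → ∀ i, (bT k A B).repr g i ∈ J) ?_ J g h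
  clear h g J
  intro J' ih g h
  obtain ⟨J, rfl⟩ : ∃ J : Ideal B, J = J' := ⟨J', rfl⟩
  by_cases htop : J = ⊤
  · exact fun i => htop ▸ trivial
  by_cases hp : J.IsPrime
  · haveI := hp
    let K := FractionRing (B ⧸ J)
    let φ : B →ₐ[k] K := (IsScalarTower.toAlgHom k (B ⧸ J) K).comp (Ideal.Quotient.mkₐ k J)
    have hφ : ∀ c, φ c = 0 ↔ c ∈ J := fun c => by
      simp only [φ, AlgHom.comp_apply, IsScalarTower.coe_toAlgHom', Ideal.Quotient.mkₐ_eq_mk]
      rw [map_eq_zero_iff _ (IsFractionRing.injective (B ⧸ J) K), Ideal.Quotient.eq_zero_iff_mem]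
    haveI : IsDomain (K ⊗[k] A) := GeomIrred.isDomain_tensor
    have h0 : mapT φ f * mapT φ g = 0 := by
      rw [← map_mul, mapT_eq_zero_iff]
      exact fun i => (hφ _).2 (h i)
    rcases mul_eq_zero.1 h0 with h1 | h1
    · exact absurd (J.eq_top_of_isUnit_mem ((hφ _).1 ((mapT_eq_zero_iff φ f).1 h1 i₀)) hf) htop
    · exact fun i => (hφ _).1 ((mapT_eq_zero_iff φ g).1 h1 i)
  · obtain ⟨a, b, hab, ha, hb⟩ : ∃ a b, a * b ∈ J ∧ a ∉ J ∧ b ∉ J := by
      simp only [Ideal.isPrime_iff, htop, ne_eq, not_false_eq_true, true_and] at hp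
      push Not at hp
      exact hp
    let J₁ := J ⊔ Ideal.span {a}
    let J₂ : Ideal B := Submodule.comap (LinearMap.mulLeft B a) J
    have h₁ : J < J₁ := lt_of_le_of_ne le_sup_left fun e => ha (e ▸ (le_sup_right : _ ≤ J₁)
      (Ideal.mem_span_singleton_self a))
    have h₂ : J < J₂ := lt_of_le_of_ne (fun c hc => J.mul_mem_left a hc) fun e => hb (e ▸ hab)
    have hg₁ := ih J₁ h₁ g fun i => (le_sup_left : J ≤ J₁) (h i)
    have hspl : ∀ i, ∃ c, (bT k A B).repr g i - a * c ∈ J := fun i => by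
      obtain ⟨y, hy, z, hz, e⟩ := Submodule.mem_sup.1 (hg₁ i)
      obtain ⟨c, rfl⟩ := Ideal.mem_span_singleton.1 hz
      exact ⟨c, by rw [← e, add_sub_cancel_right]; exact hy⟩
    choose c hc using hspl
    let g' : B ⊗[k] A := ∑ i ∈ ((bT k A B).repr g).support, c i • (bT k A B) i
    have hg' : ∀ i, (bT k A B).repr (g - a • g') i ∈ J := fun i => by
      classical
      rw [map_sub, Finsupp.sub_apply, repr_smul]
      simp only [g', map_sum, map_smul, Module.Basis.repr_self, Finsupp.finsetSum_apply,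
        Finsupp.smul_apply, Finsupp.single_apply, smul_eq_mul, mul_ite, mul_one, mul_zero,
        Finset.sum_ite_eq']
      split_ifs with hi
      · exact hc i
      · rw [Finsupp.notMem_support_iff.1 hi]
        simp
    have hker : ∀ i, (bT k A B).repr (f * (g - a • g')) i ∈ J := fun i => by
      have hmem := Submodule.map_smul'' J ⊤ (LinearMap.mulLeft B f)
      have h1 : f * (g - a • g') ∈ J • (⊤ : Submodule B (B ⊗[k] A)) :=
        (hmem.le.trans (Submodule.smul_mono le_rfl le_top)) ⟨_, mem_smul_of_forall J _ hg', rfl⟩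
      refine Submodule.smul_induction_on h1 (fun c hc x _ => ?_) (fun x y hx hy => ?_)
      · rw [repr_smul]
        exact J.mul_mem_right _ hc
      · rw [map_add, Finsupp.add_apply]
        exact J.add_mem hx hy
    have hg'' := ih J₂ h₂ g' fun i => by
      show a * _ ∈ J
      rw [← repr_smul, ← mul_smul_comm]
      have := J.sub_mem (h i) (hker i)
      rwa [← Finsupp.sub_apply, ← map_sub, ← mul_sub, sub_sub_cancel] at this
    intro i
    have h1 : a * (bT k A B).repr g' i ∈ J := hg'' i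
    have h2 := hg' i
    rw [map_sub, Finsupp.sub_apply, repr_smul] at h2
    exact (Submodule.sub_mem_iff_left J h1).1 h2

/-- An element with a unit coefficient is a non-zero-divisor. -/
theorem eq_zero_of_mul_eq_zero (f : B ⊗[k] A) (i₀) (hf : IsUnit ((bT k A B).repr f i₀))
    (g : B ⊗[k] A) (h : f * g = 0) : g = 0 := by
  classical
  let sf := ((bT k A B).repr f).support
  let sg := ((bT k A B).repr g).support
  let T : Finset B := sf.image ((bT k A B).repr f) ∪ sg.image ((bT k A B).repr g) ∪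
    {(↑hf.unit⁻¹ : B)}
  let B₀ := Algebra.adjoin k (T : Set B)
  haveI : Algebra.FiniteType k B₀ := ⟨(Subalgebra.fg_top B₀).2 ⟨T, rfl⟩⟩
  haveI : IsNoetherianRing B₀ := Algebra.FiniteType.isNoetherianRing k B₀
  have mem : ∀ x : B ⊗[k] A, (∀ i ∈ ((bT k A B).repr x).support, (bT k A B).repr x i ∈ T) →
      ∃ y : B₀ ⊗[k] A, mapT B₀.val y = x := fun x hx => by
    refine ⟨∑ i ∈ ((bT k A B).repr x).support.attach,
      (⟨_, Algebra.subset_adjoin (hx i.1 i.2)⟩ : B₀) ⊗ₜ[k] bA k A i.1, ?_⟩
    rw [map_sum]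
    conv_rhs => rw [← (bT k A B).linearCombination_repr x, Finsupp.linearCombination_apply,
      Finsupp.sum, ← Finset.sum_attach]
    refine Finset.sum_congr rfl fun i _ => ?_
    simp [Algebra.TensorProduct.basis_apply, TensorProduct.smul_tmul']
  obtain ⟨f₀, hf₀⟩ := mem f fun i hi =>
    Finset.mem_union_left _ (Finset.mem_union_left _ (Finset.mem_image_of_mem _ hi))
  obtain ⟨g₀, hg₀⟩ := mem g fun i hi =>
    Finset.mem_union_left _ (Finset.mem_union_right _ (Finset.mem_image_of_mem _ hi))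
  have hv : (↑hf.unit⁻¹ : B) ∈ B₀ :=
    Algebra.subset_adjoin (Finset.mem_union_right _ (Finset.mem_singleton_self _))
  have hu : IsUnit ((bT k A B₀).repr f₀ i₀) := IsUnit.of_mul_eq_one ⟨_, hv⟩ (Subtype.ext (by
    show B₀.val _ * (↑hf.unit⁻¹ : B) = 1
    rw [← repr_mapT, hf₀]
    exact hf.mul_val_inv))
  have h0 : ∀ i, (bT k A B₀).repr (f₀ * g₀) i ∈ (⊥ : Ideal B₀) := fun i => Subtype.ext (by
    show B₀.val _ = 0
    rw [← repr_mapT, map_mul, hf₀, hg₀, h]
    simp)
  rw [← hg₀, mapT_eq_zero_iff]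
  intro i
  rw [(Submodule.mem_bot _).1 (repr_mem_of_mul_mem f₀ i₀ hu ⊥ g₀ h0 i), map_zero]

/-- The quotient by an element with a unit coefficient is flat. -/
theorem flat_quotient (f : B ⊗[k] A) (i₀) (hf : IsUnit ((bT k A B).repr f i₀)) :
    Module.Flat B ((B ⊗[k] A) ⧸ Ideal.span {f}) := by
  let F := B ⊗[k] A
  haveI : Module.Free B F := Module.Free.of_basis (bT k A B)
  let π : F →ₗ[B] F ⧸ Ideal.span {f} := (Ideal.Quotient.mkₐ B (Ideal.span {f})).toLinearMap
  have hπ : ∀ x, π x = Ideal.Quotient.mk (Ideal.span {f}) x := fun _ => rfl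
  refine Module.Flat.iff_rTensor_injective'.2 fun I => (injective_iff_map_eq_zero _).2 fun y hy => ?_
  obtain ⟨y', rfl⟩ := LinearMap.lTensor_surjective I
    (show Function.Surjective π from Ideal.Quotient.mk_surjective) y
  let μ : I ⊗[B] F →ₗ[B] F := (TensorProduct.lid B F).toLinearMap ∘ₗ I.subtype.rTensor F
  have hμ : ∀ z, (TensorProduct.lid B (F ⧸ Ideal.span {f}))
      (I.subtype.rTensor _ (π.lTensor I z)) = π (μ z) := fun z => by
    induction z using TensorProduct.induction_on with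
    | zero => simp
    | tmul c x => simp [μ]
    | add a b ha hb => simp [ha, hb]
  have h1 : π (μ y') = 0 := by rw [← hμ, hy, map_zero]
  rw [hπ, Ideal.Quotient.eq_zero_iff_mem, Ideal.mem_span_singleton] at h1
  obtain ⟨h, hh⟩ := h1
  let φ : B →ₐ[k] B ⧸ I := Ideal.Quotient.mkₐ k I
  have hw : mapT φ (μ y') = 0 := by
    rw [mapT_eq_zero_iff]
    intro i
    show Ideal.Quotient.mk I _ = 0
    rw [Ideal.Quotient.eq_zero_iff_mem]
    have key : ∀ z, (bT k A B).repr (μ z) i ∈ I := fun z => by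
      induction z using TensorProduct.induction_on with
      | zero => simp [μ]
      | tmul c x => simp [μ, I.mul_mem_right _ c.2]
      | add a b ha hb => rw [map_add, map_add, Finsupp.add_apply]; exact I.add_mem ha hb
    exact key y'
  rw [hh, map_mul] at hw
  have hu : IsUnit ((bT k A (B ⧸ I)).repr (mapT φ f) i₀) := by
    rw [repr_mapT]
    exact hf.map φ
  have hhI := (mapT_eq_zero_iff φ h).1 (eq_zero_of_mul_eq_zero _ i₀ hu _ hw)
  let η : I ⊗[B] F := ∑ i ∈ ((bT k A B).repr h).support,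
    (⟨(bT k A B).repr h i, Ideal.Quotient.eq_zero_iff_mem.1 (hhI i)⟩ : I) ⊗ₜ[B] (bT k A B) i
  have hη : μ η = h := by
    conv_rhs => rw [← (bT k A B).linearCombination_repr h, Finsupp.linearCombination_apply, Finsupp.sum]
    simp only [η, map_sum]
    exact Finset.sum_congr rfl fun i _ => by simp [μ]
  let ν : F →ₗ[B] F := LinearMap.mulLeft B f
  have hμν : ∀ z, μ (ν.lTensor I z) = f * μ z := fun z => by
    induction z using TensorProduct.induction_on with
    | zero => simp
    | tmul c x => simp [μ, ν, mul_smul_comm]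
    | add a b ha hb => simp [ha, hb, mul_add]
  have hinj : Function.Injective μ := (TensorProduct.lid B F).injective.comp
    (Module.Flat.rTensor_preserves_injective_linearMap _ I.injective_subtype)
  have hy' : y' = ν.lTensor I η := hinj (by rw [hμν, hη, hh])
  have hzero : π ∘ₗ ν = 0 := LinearMap.ext fun x => by
    rw [LinearMap.comp_apply, hπ, LinearMap.zero_apply, Ideal.Quotient.eq_zero_iff_mem]
    exact Ideal.mul_mem_right _ _ (Ideal.mem_span_singleton_self f)
  rw [hy', ← LinearMap.comp_apply, ← LinearMap.lTensor_comp, hzero, LinearMap.lTensor_zero,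
    LinearMap.zero_apply]

theorem exists_cover (Z : Finset (A →ₐ[k] k)) (R : Type u) [CommRing R] [Algebra k R]
    (U : TopologicalSpace.Opens (PrimeSpectrum (R ⊗[k] A)))
    (p : PrimeSpectrum R) (hZ : ∀ z ∈ Z,
      PrimeSpectrum.comap (Algebra.TensorProduct.lift (AlgHom.id k R) ((Algebra.ofId k R).comp z)
        (fun _ _ => Commute.all _ _)).toRingHom p ∈ U)
    (hsurj : ∃ P ∈ U, PrimeSpectrum.comap (Algebra.TensorProduct.includeLeftRingHom : R →+* R ⊗[k] A) P = p) :
    ∃ r : R, r ∉ p.asIdeal ∧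
      ∃ f : (Localization.Away r) ⊗[k] A,
        f ∈ nonZeroDivisors ((Localization.Away r) ⊗[k] A) ∧
        Module.Flat (Localization.Away r) ((Localization.Away r) ⊗[k] A ⧸ Ideal.span {f}) ∧
        (∀ z ∈ Z, IsUnit (Algebra.TensorProduct.lift (AlgHom.id k (Localization.Away r))
          ((Algebra.ofId k (Localization.Away r)).comp z) (fun _ _ => Commute.all _ _) f)) ∧
        (∀ P : PrimeSpectrum ((Localization.Away r) ⊗[k] A), f ∉ P.asIdeal →
          PrimeSpectrum.comap (Algebra.TensorProduct.map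
            (IsScalarTower.toAlgHom k R (Localization.Away r)) (AlgHom.id k A)).toRingHom P ∈ U) := by
  classical
  obtain ⟨J, hJ⟩ := (PrimeSpectrum.isClosed_iff_zeroLocus_ideal _).1 U.isOpen.isClosed_compl
  have hmem : ∀ P, P ∈ U ↔ ¬ J ≤ P.asIdeal := fun P => by
    rw [← SetLike.mem_coe, ← not_not (a := P ∈ (U : Set _)), ← Set.mem_compl_iff, hJ,
      PrimeSpectrum.mem_zeroLocus, SetLike.coe_subset_coe]
  let L (z : A →ₐ[k] k) : R ⊗[k] A →ₐ[k] R :=
    Algebra.TensorProduct.lift (AlgHom.id k R) ((Algebra.ofId k R).comp z) (fun _ _ => Commute.all _ _)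
  let K := FractionRing (R ⧸ p.asIdeal)
  let φ : R →ₐ[k] K := (IsScalarTower.toAlgHom k (R ⧸ p.asIdeal) K).comp (Ideal.Quotient.mkₐ k p.asIdeal)
  have hφ : ∀ c, φ c = 0 ↔ c ∈ p.asIdeal := fun c => by
    simp only [φ, AlgHom.comp_apply, IsScalarTower.coe_toAlgHom', Ideal.Quotient.mkₐ_eq_mk]
    rw [map_eq_zero_iff _ (IsFractionRing.injective (R ⧸ p.asIdeal) K), Ideal.Quotient.eq_zero_iff_mem]
  haveI : IsDomain (K ⊗[k] A) := GeomIrred.isDomain_tensor
  let Q : Option (A →ₐ[k] k) → Ideal (R ⊗[k] A) := fun o =>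
    match o with
    | none => RingHom.ker (mapT φ)
    | some z => Ideal.comap (L z) p.asIdeal
  let s : Finset (Option (A →ₐ[k] k)) := insert none (Z.image some)
  have hQ : ∀ o ∈ s, (Q o).IsPrime := fun o _ => by
    cases o with
    | none => exact RingHom.ker_isPrime (mapT φ)
    | some z => exact Ideal.IsPrime.comap _
  obtain ⟨g, hgJ, hg⟩ : ∃ g ∈ J, ∀ o ∈ s, g ∉ Q o := by
    by_contra hcon
    push Not at hcon
    obtain ⟨o, ho, hle⟩ := (Ideal.subset_union_prime none none (f := Q) (fun o ho _ _ => hQ o ho)).1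
      (show (J : Set (R ⊗[k] A)) ⊆ ⋃ o ∈ (s : Set (Option (A →ₐ[k] k))), (Q o : Set _) from
        fun x hx => by
          obtain ⟨o, ho, hxo⟩ := hcon x hx
          exact Set.mem_biUnion ho hxo)
    cases o with
    | none =>
      obtain ⟨P, hP, hPp⟩ := hsurj
      refine (hmem P).1 hP (hle.trans fun x hx => ?_)
      have hc := (mapT_eq_zero_iff φ x).1 hx
      have hx' := mem_smul_of_forall p.asIdeal x fun i => (hφ _).1 (hc i)
      refine Submodule.smul_induction_on hx' (fun c hc y _ => ?_) (fun a b ha hb => P.asIdeal.add_mem ha hb)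
      rw [Algebra.smul_def]
      refine P.asIdeal.mul_mem_right _ ?_
      rw [← hPp] at hc
      exact hc
    | some z =>
      obtain ⟨z', hz', e⟩ := Finset.mem_image.1 ((Finset.mem_insert.1 ho).resolve_left (by simp))
      obtain rfl := Option.some_injective _ e
      exact (hmem _).1 (hZ z' hz') hle
  obtain ⟨i₀, hi₀⟩ : ∃ i, (bT k A R).repr g i ∉ p.asIdeal := by
    by_contra hcon
    push Not at hcon
    exact hg none (Finset.mem_insert_self _ _) ((mapT_eq_zero_iff φ g).2 fun i => (hφ _).2 (hcon i))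
  let r : R := (bT k A R).repr g i₀ * ∏ z ∈ Z, L z g
  have hr : r ∉ p.asIdeal := by
    refine p.isPrime.mul_notMem hi₀ fun h => ?_
    obtain ⟨z, hz, hz'⟩ := Ideal.IsPrime.prod_mem_iff.1 h
    exact hg (some z) (Finset.mem_insert_of_mem (Finset.mem_image_of_mem _ hz)) hz'
  let ψ : R →ₐ[k] Localization.Away r := IsScalarTower.toAlgHom k R (Localization.Away r)
  have hψ : ∀ c : R, c ∣ r → IsUnit (ψ c) := fun c hc =>
    isUnit_of_dvd_unit (map_dvd ψ hc) (IsLocalization.Away.algebraMap_isUnit r)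
  have hu : IsUnit ((bT k A (Localization.Away r)).repr (mapT ψ g) i₀) := by
    rw [repr_mapT]
    exact hψ _ (Dvd.intro _ rfl)
  refine ⟨r, hr, mapT ψ g, ?_, flat_quotient _ i₀ hu, fun z hz => ?_, fun P hP => (hmem _).2 fun hle => hP (hle hgJ)⟩
  · rw [mem_nonZeroDivisors_iff]
    exact ⟨fun x hx => eq_zero_of_mul_eq_zero _ i₀ hu x hx,
      fun x hx => eq_zero_of_mul_eq_zero _ i₀ hu x (by rwa [mul_comm] at hx)⟩
  · have e : ∀ x, Algebra.TensorProduct.lift (AlgHom.id k (Localization.Away r))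
        ((Algebra.ofId k (Localization.Away r)).comp z) (fun _ _ => Commute.all _ _) (mapT ψ x) = ψ (L z x) := by
      intro x
      refine AlgHom.congr_fun (φ₁ := (Algebra.TensorProduct.lift (AlgHom.id k (Localization.Away r)) ((Algebra.ofId k (Localization.Away r)).comp z) (fun _ _ => Commute.all _ _)).comp (mapT ψ))
        (φ₂ := ψ.comp (L z)) ?_ x
      exact Algebra.TensorProduct.ext' fun a b => by simp [L, map_mul]
    rw [e]
    exact hψ _ ((Finset.dvd_prod_of_mem (fun z => L z g) hz).mul_left _)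

end Groth.Agent.PrincDivLib
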